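import Mathlib.RingTheory.PowerSeries.Exp
import Mathlib.RingTheory.PowerSeries.Derivative
import Mathlib.RingTheory.PowerSeries.Inverse

/-!
# The Todd series
-/

set_option autoImplicit false

open PowerSeries

namespace Groth.Agent.IntThLib

theorem exp_sub_one_ne_zero : (exp ℚ - 1 : ℚ⟦X⟧) ≠ 0 := fun h => by
  have := congrArg (coeff 1) h
  simp [coeff_exp, coeff_one] at this

theorem d_exp : d⁄dX ℚ (exp ℚ) = exp ℚ := PowerSeries.ext fun n => by
  rw [coeff_derivative, coeff_exp, coeff_exp]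
  simp only [Nat.factorial_succ, Nat.cast_mul, Nat.cast_succ, map_div₀, map_one, map_mul, eq_ratCast]
  push_cast
  field_simp

theorem todd_ode {f : ℚ⟦X⟧} (hf : f * (exp ℚ - 1) = X * exp ℚ) :
    X * d⁄dX ℚ f = f + X * f - f * f := by
  refine mul_right_cancel₀ exp_sub_one_ne_zero ?_
  have h := congrArg (d⁄dX ℚ) hf
  rw [Derivation.leibniz, Derivation.leibniz, map_sub, Derivation.map_one_eq_zero, sub_zero, d_exp, derivative_X,
    smul_eq_mul, smul_eq_mul, smul_eq_mul, smul_eq_mul, mul_one] at h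
  linear_combination (X : ℚ⟦X⟧) * h - (1 + X - f) * hf

theorem d_rescale_exp (m : ℚ) : d⁄dX ℚ (rescale m (exp ℚ)) = C m * rescale m (exp ℚ) := PowerSeries.ext fun n => by
  rw [coeff_derivative, coeff_C_mul, coeff_rescale, coeff_rescale, coeff_exp, coeff_exp]
  simp only [Nat.factorial_succ, Nat.cast_mul, Nat.cast_succ, map_div₀, map_one, map_mul, eq_ratCast]
  push_cast
  field_simp
  ring

theorem coeff_rescale_exp_step {f : ℚ⟦X⟧} (hf : f * (exp ℚ - 1) = X * exp ℚ) (m : ℚ) (n : ℕ) :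
    ((n : ℚ) + 1) * coeff (n + 1) (rescale m (exp ℚ) * f ^ (n + 2)) =
      (m + (n + 1)) * coeff n (rescale m (exp ℚ) * f ^ (n + 1)) := by
  set E := rescale m (exp ℚ)
  set g := E * f ^ (n + 1)
  have h1 : C ((n : ℚ) + 1) * (E * f ^ (n + 2)) =
      C ((n : ℚ) + 1) * g + C (m + (n + 1)) * (X * g) - X * d⁄dX ℚ g := by
    simp only [g]
    rw [Derivation.leibniz, Derivation.leibniz_pow, d_rescale_exp, smul_eq_mul, smul_eq_mul, nsmul_eq_mul,
      Nat.add_sub_cancel, smul_eq_mul]
    simp only [Nat.cast_succ, map_add, map_natCast, map_one]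
    linear_combination ((n : ℚ⟦X⟧) + 1) * E * f ^ n * todd_ode hf
  have h2 := congrArg (coeff (n + 1)) h1
  rw [coeff_C_mul, map_sub (coeff (n + 1)), map_add (coeff (n + 1)), coeff_C_mul, coeff_C_mul, coeff_succ_X_mul, coeff_succ_X_mul,
    coeff_derivative] at h2
  linarith

theorem constantCoeff_todd {f : ℚ⟦X⟧} (hf : f * (exp ℚ - 1) = X * exp ℚ) : constantCoeff f = 1 := by
  have h := congrArg (coeff 1) hf
  rw [coeff_succ_X_mul, coeff_mul, Finset.Nat.antidiagonal_succ, Finset.sum_cons] at h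
  simpa [coeff_exp, coeff_one] using h

theorem coeff_pow_todd {f : ℚ⟦X⟧} (hf : f * (exp ℚ - 1) = X * exp ℚ) (n : ℕ) : coeff n (f ^ (n + 1)) = 1 := by
  induction n with
  | zero => simp [constantCoeff_todd hf]
  | succ n ih =>
    have h := coeff_rescale_exp_step hf 0 n
    have h0 : rescale (0 : ℚ) (exp ℚ) = 1 := by simp [rescale_zero]
    rw [h0, one_mul, one_mul, ih, zero_add, mul_one] at h
    exact mul_left_cancel₀ (Nat.cast_add_one_ne_zero n) (h.trans (mul_one _).symm)

theorem exists_todd : ∃ f : ℚ⟦X⟧, f * (exp ℚ - 1) = X * exp ℚ := by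
  obtain ⟨w, hw⟩ : X ∣ (exp ℚ - 1 : ℚ⟦X⟧) := X_dvd_iff.2 (by simp)
  have h1 : constantCoeff w ≠ 0 := fun h => by
    have := congrArg (coeff 1) hw
    rw [coeff_succ_X_mul, coeff_zero_eq_constantCoeff, h] at this
    simp [coeff_exp, coeff_one] at this
  exact ⟨exp ℚ * w⁻¹, by rw [hw]; linear_combination (X * exp ℚ) * PowerSeries.inv_mul_cancel w h1⟩

theorem eq_of_coeff_pow {f t : ℚ⟦X⟧} (hf : ∀ n, coeff n (f ^ (n + 1)) = 1) (ht : ∀ n, coeff n (t ^ (n + 1)) = 1) :
    f = t := by
  have hf0 : constantCoeff f = 1 := by simpa using hf 0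
  have ht0 : constantCoeff t = 1 := by simpa using ht 0
  refine PowerSeries.ext fun n => ?_
  induction n using Nat.strong_induction_on with
  | _ n ih =>
    obtain ⟨r, hr⟩ : X ^ n ∣ f - t := X_pow_dvd_iff.2 fun m hm => by rw [map_sub, ih m hm, sub_self]
    have h := congrArg₂ (· - ·) (hf n) (ht n)
    simp only [sub_self] at h
    rw [← map_sub, ← geom_sum₂_mul, hr, mul_left_comm, coeff_X_pow_mul', if_pos le_rfl, Nat.sub_self,
      coeff_zero_eq_constantCoeff, map_mul, map_sum] at h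
    simp only [map_mul, map_pow, hf0, ht0, one_pow, mul_one, Finset.sum_const, Finset.card_range, nsmul_eq_mul] at h
    have hr0 : constantCoeff r = 0 := (mul_eq_zero.1 h).resolve_left (by exact_mod_cast n.succ_ne_zero)
    have := congrArg (coeff n) hr
    rw [map_sub, coeff_X_pow_mul', if_pos le_rfl, Nat.sub_self, coeff_zero_eq_constantCoeff, hr0] at this
    exact sub_eq_zero.1 this

end Groth.Agent.IntThLib
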